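import Cfsg.Agent.Lib.Helper9.TCData.Fi22C2.Main

set_option autoImplicit false
set_option maxRecDepth 1000000

namespace Cfsg.Agent.Helper9.TCData.Fi22C2
open Cfsg.Agent.Helper9.TC2

theorem f_0 : allRange 0 288 (fun u => chkFin tab u) = true := by decide +kernel

theorem c_0 : allRange 0 288 (fun u => chkCls tab u) = true := by decide +kernel


end Cfsg.Agent.Helper9.TCData.Fi22C2
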